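import Cfsg.Agent.H252.LT.Fill.Glue
import Cfsg.Agent.H215.LT.LieTwo

/-! # S2927: characteristic two, part A -/

set_option autoImplicit false

universe u

open Subgroup Cfsg
open Cfsg.Agent.H731.SK
open Cfsg.Agent.H226.Tall (No1 No2 Fib Loc RowOne RowTwo Both NotCP)

namespace Cfsg.Agent.H252.LT

/-- one component: all groups of Lie type in characteristic two -/
theorem a_lie2 : DeadL.{u} fun K _ => IsLieTypeChar 2 K :=
  DeadL.mono H215.LT.deadL_chevTwo fun _ _ h => Or.inl h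

theorem a_psl : DeadL.{u} fun K _ => PslEven K := DeadL.mono a_lie2 fun _ _ h => Or.inl h
theorem a_psp : DeadL.{u} fun K _ => PspEven K := DeadL.mono a_lie2 fun _ _ h => by
  obtain ⟨F, i1, i2, i3, m, hm, h4, e⟩ := h
  exact Or.inr (Or.inl ⟨F, i1, i2, i3, m, hm, fun h => le_trans (by norm_num) (h4 h), e⟩)
theorem a_psu : DeadL.{u} fun K _ => PsuEven K := DeadL.mono a_lie2 fun _ _ h => by
  obtain ⟨F, i1, i2, i3, n, q, hF, -, hn, h3, -, e⟩ := h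
  exact Or.inr (Or.inr (Or.inl ⟨F, i1, i2, i3, n, q, hF, hn, h3, e⟩))
theorem a_plus : DeadL.{u} fun K _ => PlusEven K := DeadL.mono a_lie2 fun _ _ h =>
  Or.inr (Or.inr (Or.inr (Or.inr (Or.inl h))))
theorem a_minus : DeadL.{u} fun K _ => MinusEven K := DeadL.mono a_lie2 fun _ _ h =>
  Or.inr (Or.inr (Or.inr (Or.inr (Or.inr (Or.inl h)))))

theorem exc_of {K : Type u} [Group K] (h : IsExceptionalChevChar 2 K) : IsLieTypeChar 2 K :=
  Or.inr (Or.inr (Or.inr (Or.inr (Or.inr (Or.inr (Or.inl h))))))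

theorem exc_g2 {K : Type u} [Group K] (h : GTwoEven K) : IsExceptionalChevChar 2 K := by
  obtain ⟨F, i1, i2, i3, h4, e⟩ := h
  exact ⟨F, i1, i2, i3, Or.inl ⟨le_trans (by norm_num) h4, e⟩⟩
theorem exc_f4 {K : Type u} [Group K] (h : FFourEven K) : IsExceptionalChevChar 2 K := by
  obtain ⟨F, i1, i2, i3, e⟩ := h
  exact ⟨F, i1, i2, i3, Or.inr (Or.inl e)⟩
theorem exc_e6 {K : Type u} [Group K] (h : ESixEven K) : IsExceptionalChevChar 2 K := by
  obtain ⟨F, i1, i2, i3, e⟩ := h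
  exact ⟨F, i1, i2, i3, Or.inr (Or.inr (Or.inl e))⟩
theorem exc_e7 {K : Type u} [Group K] (h : ESevenEven K) : IsExceptionalChevChar 2 K := by
  obtain ⟨F, i1, i2, i3, e⟩ := h
  exact ⟨F, i1, i2, i3, Or.inr (Or.inr (Or.inr (Or.inl e)))⟩
theorem exc_e8 {K : Type u} [Group K] (h : EEightEven K) : IsExceptionalChevChar 2 K := by
  obtain ⟨F, i1, i2, i3, e⟩ := h
  exact ⟨F, i1, i2, i3, Or.inr (Or.inr (Or.inr (Or.inr e)))⟩

theorem a_g2 : DeadL.{u} fun K _ => GTwoEven K := DeadL.mono a_lie2 fun _ _ h => exc_of (exc_g2 h)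
theorem a_f4 : DeadL.{u} fun K _ => FFourEven K := DeadL.mono a_lie2 fun _ _ h => exc_of (exc_f4 h)
theorem a_e6 : DeadL.{u} fun K _ => ESixEven K := DeadL.mono a_lie2 fun _ _ h => exc_of (exc_e6 h)
theorem a_e7 : DeadL.{u} fun K _ => ESevenEven K := DeadL.mono a_lie2 fun _ _ h => exc_of (exc_e7 h)
theorem a_e8 : DeadL.{u} fun K _ => EEightEven K := DeadL.mono a_lie2 fun _ _ h => exc_of (exc_e8 h)

theorem tw_of {K : Type u} [Group K] (h : IsTwistedE6D4Char 2 K) : IsLieTypeChar 2 K :=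
  Or.inr (Or.inr (Or.inr (Or.inr (Or.inr (Or.inr (Or.inr (Or.inl h)))))))

theorem a_twE6 : DeadL.{u} fun K _ => TwESixEven K := DeadL.mono a_lie2 fun _ _ h => tw_of (by
  obtain ⟨F, i1, i2, i3, q, hq, hF, e⟩ := h
  exact ⟨F, i1, i2, i3, q, hq, Or.inl ⟨hF, e⟩⟩)
theorem a_twD4 : DeadL.{u} fun K _ => TwDFourEven K := DeadL.mono a_lie2 fun _ _ h => tw_of (by
  obtain ⟨F, i1, i2, i3, q, hq, hF, e⟩ := h
  exact ⟨F, i1, i2, i3, q, hq, Or.inr ⟨hF, e⟩⟩)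
theorem a_sz : DeadL.{u} fun K _ => Lie.IsoSuzuki K := DeadL.mono a_lie2 fun _ _ h =>
  Or.inr (Or.inr (Or.inr (Or.inr (Or.inr (Or.inr (Or.inr (Or.inr (Or.inl ⟨rfl, h⟩))))))))
theorem a_twF4 : DeadL.{u} fun K _ => Lie.Iso2F4 K := DeadL.mono a_lie2 fun _ _ h =>
  Or.inr (Or.inr (Or.inr (Or.inr (Or.inr (Or.inr (Or.inr (Or.inr (Or.inr (Or.inl ⟨rfl, h⟩)))))))))

end Cfsg.Agent.H252.LT
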