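import Cfsg.Agent.H252.LT.Fill.LieA
import Cfsg.Agent.H252.LT.Fill.GlueR
import Cfsg.Agent.H226.Tall.Gen
import Cfsg.Agent.H14.Tall.RowTwo
import Cfsg.Agent.H92.Tall.Tw
import Cfsg.Agent.H92.Tall.Exc

/-! # S2927: characteristic two, at least two components -/

set_option autoImplicit false

universe u

open Subgroup Cfsg
open Cfsg.Agent.H731.SK
open Cfsg.Agent.H17.LT (DeadR)

namespace Cfsg.Agent.H252.LT

theorem two_eq_zero {F : Type} [Field F] [CharP F 2] : (2 : F) = 0 := by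
  exact_mod_cast CharP.cast_eq_zero F 2

theorem b_psl (h2 : DeadR.{u} fun K _ => ∃ (F : Type) (_ : Field F) (_ : Fintype F) (_ : CharP F 2),
    Nonempty (K ≃* Matrix.ProjectiveSpecialLinearGroup (Fin 2) F))
    (h3 : DeadR.{u} fun K _ => ∃ (F : Type) (_ : Field F) (_ : Fintype F) (_ : CharP F 2),
    Nonempty (K ≃* Matrix.ProjectiveSpecialLinearGroup (Fin 3) F)) : DeadR.{u} fun K _ => PslEven K := by
  rintro G _ _ S Q M K t ⟨F, i1, i2, i3, n, hn, -, ⟨e⟩⟩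
  rcases hn.eq_or_lt with rfl | hn
  · exact h2 t ⟨F, i1, i2, i3, ⟨e⟩⟩
  rcases (Nat.succ_le_of_lt hn).eq_or_lt with rfl | hn
  · exact h3 t ⟨F, i1, i2, i3, ⟨e⟩⟩
  · exact H17.LT.deadR_rowTwo t fun z hz =>
      ((H14.Tall.rowTwo_psl two_eq_zero hn).congr e.symm) z (twoC_of_twoCentral hz)

theorem b_psp (h2 : DeadR.{u} fun K _ => ∃ (F : Type) (_ : Field F) (_ : Fintype F) (k : ℕ),
    2 ≤ k ∧ Fintype.card F = 2 ^ k ∧ Nonempty (K ≃* PSp 2 F)) : DeadR.{u} fun K _ => PspEven K := by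
  rintro G _ _ S Q M K t ⟨F, i1, i2, i3, m, hm, h4, ⟨e⟩⟩
  rcases hm.eq_or_lt with rfl | hm
  · have h4' := h4 rfl
    obtain ⟨k, -, hk⟩ := FiniteField.card F 2
    refine h2 t ⟨F, i1, i2, k, ?_, hk, ⟨e⟩⟩
    by_contra hlt
    have h1 : (k : ℕ) ≤ 1 := by omega
    have h2 : 2 ^ (k : ℕ) ≤ 2 ^ 1 := Nat.pow_le_pow_right (by norm_num) h1
    rw [← hk] at h2
    omega
  · exact H17.LT.deadR_rowTwo t fun z hz =>
      ((H14.Tall.rowTwo_psp two_eq_zero hm).congr e.symm) z (twoC_of_twoCentral hz)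

theorem b_psu (h2 : DeadR.{u} fun K _ => ∃ (F : Type) (_ : Field F) (_ : Fintype F) (_ : CharP F 2) (q : ℕ),
    Fintype.card F = q ^ 2 ∧ Nonempty (K ≃* PSU 3 F q)) : DeadR.{u} fun K _ => PsuEven K := by
  rintro G _ _ S Q M K t ⟨F, i1, i2, i3, n, q, hF, -, hn, h3, -, ⟨e⟩⟩
  rcases hn.eq_or_lt with rfl | hn
  · exact h2 t ⟨F, i1, i2, i3, q, hF, ⟨e⟩⟩
  · exact H17.LT.deadR_rowTwo t fun z hz =>
      ((H14.Tall.rowTwo_psu two_eq_zero hF hn).congr e.symm) z (twoC_of_twoCentral hz)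

theorem b_plus : DeadR.{u} fun K _ => PlusEven K := by
  refine @deadR_of_rowTwo' _ ?_
  rintro K _ _ _ ⟨F, i1, i2, i3, m, hm, ⟨e⟩⟩
  have : Finite (POmega F (quadFormPlus m F)) := Finite.of_equiv _ e.toEquiv
  exact (H14.Tall.rowTwo_oplus two_eq_zero hm).congr e.symm

theorem b_minus : DeadR.{u} fun K _ => MinusEven K := by
  refine @deadR_of_rowTwo' _ ?_
  rintro K _ _ _ ⟨F, i1, i2, i3, m, a, b, hm, hab, ⟨e⟩⟩
  have : Finite (POmega F (quadFormMinus (m - 1) F a b)) := Finite.of_equiv _ e.toEquiv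
  exact (H14.Tall.rowTwo_ominus two_eq_zero hm hab).congr e.symm

theorem b_twE6 : DeadR.{u} fun K _ => TwESixEven K := by
  refine @deadR_of_rowTwo' _ ?_
  rintro K _ _ _ ⟨F, i1, i2, i3, q, hq, hF, e⟩
  exact H92.Tall.rowTwo_twisted ⟨F, i1, i2, i3, q, hq, Or.inl ⟨hF, e⟩⟩

theorem b_twD4 : DeadR.{u} fun K _ => TwDFourEven K := by
  refine @deadR_of_rowTwo' _ ?_
  rintro K _ _ _ ⟨F, i1, i2, i3, q, hq, hF, e⟩
  exact H92.Tall.rowTwo_twisted ⟨F, i1, i2, i3, q, hq, Or.inr ⟨hF, e⟩⟩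

theorem b_g2 : DeadR.{u} fun K _ => GTwoEven K := deadR_of_rowTwo' fun _ _ _ _ h => H92.Tall.rowTwo_exc (exc_g2 h)
theorem b_f4 : DeadR.{u} fun K _ => FFourEven K := deadR_of_rowTwo' fun _ _ _ _ h => H92.Tall.rowTwo_exc (exc_f4 h)
theorem b_e6 : DeadR.{u} fun K _ => ESixEven K := deadR_of_rowTwo' fun _ _ _ _ h => H92.Tall.rowTwo_exc (exc_e6 h)
theorem b_e7 : DeadR.{u} fun K _ => ESevenEven K := deadR_of_rowTwo' fun _ _ _ _ h => H92.Tall.rowTwo_exc (exc_e7 h)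
theorem b_e8 : DeadR.{u} fun K _ => EEightEven K := deadR_of_rowTwo' fun _ _ _ _ h => H92.Tall.rowTwo_exc (exc_e8 h)

end Cfsg.Agent.H252.LT
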