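import Cfsg.Agent.H252.LT.Fill.GlueR
import Cfsg.Agent.H832.Tall.HS
import Cfsg.Agent.H870.Tall.Rows

/-! # S2927: `HS`, `O₇(3)`, `O₈⁻(3)` -/

set_option autoImplicit false

universe u

open Subgroup Cfsg
open Cfsg.Agent.H17.LT (DeadR)

namespace Cfsg.Agent.H252.LT

theorem Sp.a_hs : DeadL.{u} fun K _ => Spor.IsoHS K := deadL_of_both fun _ _ _ _ h => H832.Tall.both_hs h
theorem Sp.b_hs : DeadR.{u} fun K _ => Spor.IsoHS K := deadR_of_both fun _ _ _ _ h => H832.Tall.both_hs h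

theorem a_o73 : DeadL.{u} fun K _ => ∃ (F : Type) (_ : Field F) (_ : Fintype F), Fintype.card F = 3 ∧
    Nonempty (K ≃* POmega F (quadFormOdd 3 F)) :=
  @deadL_of_no1 _ @H870.Tall.no1_o73

theorem b_o73 : DeadR.{u} fun K _ => ∃ (F : Type) (_ : Field F) (_ : Fintype F), Fintype.card F = 3 ∧
    Nonempty (K ≃* POmega F (quadFormOdd 3 F)) := by
  refine @deadR_of_rowTwo' _ ?_
  rintro K _ _ _ ⟨F, iF, iT, h3, ⟨e⟩⟩
  exact H870.Tall.rowTwo_o73 h3 e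

theorem both_o8m3 {K : Type u} [Group K] [Finite K] (h : ∃ (F : Type) (_ : Field F) (_ : Fintype F) (a b : F),
    Fintype.card F = 3 ∧ (∀ z₁ z₂ : F, z₁ ^ 2 + a * z₁ * z₂ + b * z₂ ^ 2 = 0 → z₁ = 0 ∧ z₂ = 0) ∧
    Nonempty (K ≃* POmega F (quadFormMinus 3 F a b))) : H226.Tall.Both K := by
  obtain ⟨F, iF, iT, a, b, h3, hab, ⟨e⟩⟩ := h
  exact H870.Tall.both_o8m3 hab h3 e

end Cfsg.Agent.H252.LT
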