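import Cfsg.Agent.H252.LT.Fams
import Cfsg.Agent.H226.Tall.Gen
import Cfsg.Agent.H297.Tall.Clo
import Cfsg.Agent.H269.Tall.Exo
import Cfsg.Agent.H40.Tall.SmThree
import Cfsg.Agent.H348.Tall.LThree
import Cfsg.Agent.H348.Tall.UThree

/-! # S2927: `Both K` for the families of odd characteristic -/

set_option autoImplicit false

universe u

open Subgroup Cfsg Matrix
open Cfsg.Agent.H226.Tall

namespace Cfsg.Agent.H252.LT

theorem exists_odd_char {F : Type} [Field F] [Fintype F] (ho : Odd (Fintype.card F)) :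
    ∃ r : ℕ, Fact r.Prime ∧ r ≠ 2 ∧ CharP F r := by
  obtain ⟨p, hp, hc⟩ := H731.SK.exists_char F
  exact ⟨p, ⟨hp⟩, H731.SK.ne_two_of_odd hc ho, hc⟩

variable {K : Type u} [Group K] [Finite K] [IsSimpleGroup K]

theorem both_pslO (h : ∃ (F : Type) (_ : Field F) (_ : Fintype F) (n : ℕ), Odd (Fintype.card F) ∧ 3 ≤ n ∧
    ¬ ((n = 3 ∨ n = 4) ∧ Fintype.card F = 3) ∧ Nonempty (K ≃* ProjectiveSpecialLinearGroup (Fin n) F)) : Both K := by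
  obtain ⟨F, iF, iT, n, ho, hn, h3, ⟨e⟩⟩ := h
  obtain ⟨r, hr, hr2, hc⟩ := exists_odd_char ho
  exact both_of_notCP (H297.Tall.notCP_psl hr2 hn h3 e)

theorem both_pspO (h : ∃ (F : Type) (_ : Field F) (_ : Fintype F) (m : ℕ), Odd (Fintype.card F) ∧ 2 ≤ m ∧
    ¬ (m = 2 ∧ Fintype.card F = 3) ∧ Nonempty (K ≃* PSp m F)) : Both K := by
  obtain ⟨F, iF, iT, m, ho, hm, h3, ⟨e⟩⟩ := h
  obtain ⟨r, hr, hr2, hc⟩ := exists_odd_char ho
  exact both_of_notCP (H297.Tall.notCP_psp hr2 hm h3 e)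

theorem both_psuO (h : ∃ (F : Type) (_ : Field F) (_ : Fintype F) (n q : ℕ), Fintype.card F = q ^ 2 ∧ Odd q ∧ 3 ≤ n ∧
    ¬ ((n = 3 ∨ n = 4) ∧ q = 3) ∧ Nonempty (K ≃* PSU n F q)) : Both K := by
  obtain ⟨F, iF, iT, n, q, hF, ho, hn, h3, ⟨e⟩⟩ := h
  obtain ⟨r, hr, hr2, hc⟩ := exists_odd_char (F := F) (by rw [hF]; exact ho.pow)
  exact both_of_notCP (H297.Tall.notCP_psu hr2 hF hn h3 e)

theorem both_oodd (h : ∃ (F : Type) (_ : Field F) (_ : Fintype F) (m : ℕ), Odd (Fintype.card F) ∧ 3 ≤ m ∧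
    ¬ (m = 3 ∧ Fintype.card F = 3) ∧ Nonempty (K ≃* POmega F (quadFormOdd m F))) : Both K := by
  obtain ⟨F, iF, iT, m, ho, hm, h3, ⟨e⟩⟩ := h
  obtain ⟨r, hr, hr2, hc⟩ := exists_odd_char ho
  exact both_of_notCP (H297.Tall.notCP_oodd hr2 hm h3 e)

theorem both_oplus (h : ∃ (F : Type) (_ : Field F) (_ : Fintype F) (m : ℕ), Odd (Fintype.card F) ∧ 4 ≤ m ∧
    ¬ (m = 4 ∧ Fintype.card F = 3) ∧ Nonempty (K ≃* POmega F (quadFormPlus m F))) : Both K := by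
  obtain ⟨F, iF, iT, m, ho, hm, h3, ⟨e⟩⟩ := h
  obtain ⟨r, hr, hr2, hc⟩ := exists_odd_char ho
  exact both_of_notCP (H297.Tall.notCP_oplus hr2 hm h3 e)

theorem both_ominus (h : ∃ (F : Type) (_ : Field F) (_ : Fintype F) (m : ℕ) (a b : F), Odd (Fintype.card F) ∧ 4 ≤ m ∧
    ¬ (m = 4 ∧ Fintype.card F = 3) ∧ (∀ z₁ z₂ : F, z₁ ^ 2 + a * z₁ * z₂ + b * z₂ ^ 2 = 0 → z₁ = 0 ∧ z₂ = 0) ∧
    Nonempty (K ≃* POmega F (quadFormMinus (m - 1) F a b))) : Both K := by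
  obtain ⟨F, iF, iT, m, a, b, ho, hm, h3, hab, ⟨e⟩⟩ := h
  obtain ⟨r, hr, hr2, hc⟩ := exists_odd_char ho
  exact both_of_notCP (H297.Tall.notCP_ominus hr2 hm hab h3 e)

theorem both_l33 (h : ∃ (F : Type) (_ : Field F) (_ : Fintype F), Fintype.card F = 3 ∧
    Nonempty (K ≃* ProjectiveSpecialLinearGroup (Fin 3) F)) : Both K := by
  obtain ⟨F, iF, iT, h3, e⟩ := h
  exact H348.Tall.LThree.both_psl33 h3 e

theorem both_u33 (h : ∃ (F : Type) (_ : Field F) (_ : Fintype F), Fintype.card F = 9 ∧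
    Nonempty (K ≃* PSU 3 F 3)) : Both K := by
  obtain ⟨F, iF, iT, h3, e⟩ := h
  exact H348.Tall.UThree.both_psu33 h3 e

theorem both_psp43 (h : ∃ (F : Type) (_ : Field F) (_ : Fintype F), Fintype.card F = 3 ∧
    Nonempty (K ≃* PSp 2 F)) : Both K := by
  obtain ⟨F, iF, iT, h3, ⟨e⟩⟩ := h
  exact H40.Tall.both_psp43 h3 e

theorem both_g23 (h : ∃ (F : Type) (_ : Field F) (_ : Fintype F), Fintype.card F = 3 ∧
    Nonempty (K ≃* Lie.chevG2.group F)) : Both K := by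
  obtain ⟨F, iF, iT, h3, ⟨e⟩⟩ := h
  exact H40.Tall.both_g23 F h3 e

theorem both_exc (h : ∃ (F : Type) (_ : Field F) (_ : Fintype F), Odd (Fintype.card F) ∧ 3 < Fintype.card F ∧
    (Nonempty (K ≃* Lie.chevG2.group F) ∨ Nonempty (K ≃* Lie.chevF4.group F) ∨ Nonempty (K ≃* Lie.chevE6.group F) ∨
      Nonempty (K ≃* Lie.chevE7.group F) ∨ Nonempty (K ≃* Lie.chevE8.group F))) : Both K := by
  obtain ⟨F, iF, iT, ho, h3, ⟨⟨e⟩⟩ | ⟨⟨e⟩⟩ | ⟨⟨e⟩⟩ | ⟨⟨e⟩⟩ | ⟨⟨e⟩⟩⟩ := h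
  · exact both_of_notCP (H269.Tall.notCP_g2 ho h3 e)
  · exact both_of_notCP (H269.Tall.notCP_f4 ho h3 e)
  · exact both_of_notCP (H269.Tall.notCP_e6 ho h3 e)
  · exact both_of_notCP (H269.Tall.notCP_e7 ho h3 e)
  · exact both_of_notCP (H269.Tall.notCP_e8 ho h3 e)

theorem both_twO (h : ∃ (F : Type) (_ : Field F) (_ : Fintype F) (q : ℕ), IsPrimePow q ∧ Odd q ∧ 3 < q ∧
    ((Fintype.card F = q ^ 2 ∧ Nonempty (K ≃* Lie.twistedE6 F q)) ∨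
      (Fintype.card F = q ^ 3 ∧ Nonempty (K ≃* Lie.twistedD4 F q)))) : Both K := by
  obtain ⟨F, iF, iT, q, hq, ho, h3, ⟨hF, ⟨e⟩⟩ | ⟨hF, ⟨e⟩⟩⟩ := h
  · exact both_of_notCP (H269.Tall.notCP_te6 hq hF ho h3 e)
  · exact both_of_notCP (H269.Tall.notCP_td4 hq hF ho e)

theorem both_twD43 (h : ∃ (F : Type) (_ : Field F) (_ : Fintype F), Fintype.card F = 27 ∧
    Nonempty (K ≃* Lie.twistedD4 F 3)) : Both K := by
  obtain ⟨F, iF, iT, hF, ⟨e⟩⟩ := h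
  exact both_of_notCP (H269.Tall.notCP_td4 (Nat.prime_three.isPrimePow) (by rw [hF]; norm_num) (by decide) e)

theorem both_ree (h : Lie.IsoRee K) : Both K := both_of_notCP (H269.Tall.notCP_ree h)

end Cfsg.Agent.H252.LT
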